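import Groth.Agent.Inters29.ModelCurve
import Groth.Agent.CAlgH3.CMRing
import Groth.Agent.NormSeq24.FrobH1
import Groth.Agent.Misc15.GenericPoints
import Groth.Agent.EGA4Dim6.GenericFibre
import Groth.Agent.CurveLib.Basic

/-!
# One dimensional proper schemes without global functions are Cohen-Macaulay
-/

set_option autoImplicit false
set_option linter.style.haveILetI false
set_option backward.isDefEq.respectTransparency.types false

universe u

open CategoryTheory CategoryTheory.Limits AlgebraicGeometry TopologicalSpace IsLocalRing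
open Groth.Agent Groth.Agent.Coherent Groth.Agent.EulerLib Groth.Agent.CurveRR24

namespace Groth.Agent.CurveH0CM24

variable (k : Type u) [Field k] {X : Scheme.{u}} [X.Over (Spec (CommRingCat.of k))]

theorem exists_scalar (h : Module.finrank k (Coh.HH X (Coh.structureModule X) 0) = 1) [Nonempty X]
    (e : Γ(X, ⊤)) : ∃ c : k, baseHom k X c = e := by
  rw [(hhZero k (Coh.structureModule X)).finrank_eq] at h
  obtain ⟨x₀⟩ := ‹Nonempty X›
  haveI : Nonempty (⊤ : X.Opens) := ⟨⟨x₀, trivial⟩⟩
  have h1 : (show GA (baseHom k X) (Coh.structureModule X) from (1 : Γ(X, ⊤))) ≠ 0 :=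
    fun he => one_ne_zero (α := Γ(X, ⊤)) he
  obtain ⟨c, hc⟩ := exists_smul_eq_of_finrank_eq_one h h1
    (show GA (baseHom k X) (Coh.structureModule X) from e)
  exact ⟨c, (mul_one _).symm.trans hc⟩

/-- An element of a stalk at a closed point killed by the maximal ideal is zero. -/
theorem eq_zero_of_killed [IsLocallyNoetherian X] (h : Module.finrank k (Coh.HH X (Coh.structureModule X) 0) = 1)
    {x : X} (hx : IsClosed ({x} : Set X)) (hm : maximalIdeal (X.presheaf.stalk x) ≠ ⊥)
    (a : X.presheaf.stalk x) (ha : ∀ r ∈ maximalIdeal (X.presheaf.stalk x), r * a = 0) : a = 0 := by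
  classical
  haveI : Nonempty X := ⟨x⟩
  obtain ⟨O, hxO, s₀, rfl⟩ := X.presheaf.exists_germ_eq a
  obtain ⟨U, hU, hxU, hUO⟩ := exists_isAffineOpen_mem_and_subset (x := x) (U := O) hxO
  replace hUO : U ≤ O := hUO
  let s : Γ(X, U) := X.presheaf.map (homOfLE hUO).op s₀
  have hs : X.presheaf.germ O x hxO s₀ = X.presheaf.germ U x hxU s :=
    (TopCat.Presheaf.germ_res_apply _ _ _ _ _).symm
  rw [hs] at ha ⊢
  haveI : IsNoetherianRing Γ(X, U) := IsLocallyNoetherian.component_noetherian ⟨U, hU⟩
  let P := hU.primeIdealOf ⟨x, hxU⟩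
  obtain ⟨G, hG⟩ := (IsNoetherian.noetherian P.asIdeal)
  letI := (X.presheaf.germ U x hxU).hom.toAlgebra
  haveI := hU.isLocalization_stalk ⟨x, hxU⟩
  have hkill : ∀ r ∈ G, ∃ (V : X.Opens) (hV : V ≤ U), x ∈ V ∧
      X.presheaf.map (homOfLE hV).op (r * s) = 0 := by
    intro r hr
    have hrm : X.presheaf.germ U x hxU r ∈ maximalIdeal (X.presheaf.stalk x) :=
      (IsLocalization.AtPrime.to_map_mem_maximal_iff (X.presheaf.stalk x) P.asIdeal r).2
        (hG ▸ Submodule.subset_span hr)
    have h0 : X.presheaf.germ U x hxU (r * s) = X.presheaf.germ U x hxU 0 := by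
      rw [map_mul, map_zero]; exact ha _ hrm
    obtain ⟨V, hxV, i₁, i₂, e⟩ := X.presheaf.germ_eq (U := U) (V := U) x hxU hxU _ _ h0
    refine ⟨V, i₁.le, hxV, ?_⟩
    rw [show homOfLE i₁.le = i₁ from rfl, e, map_zero]
  choose V hV hxV hV0 using hkill
  let U' : X.Opens := U ⊓ G.attach.inf fun r => V r.1 r.2
  have hxU' : x ∈ U' := ⟨hxU, by
    have : ∀ (T : Finset {r // r ∈ G}), x ∈ T.inf fun r => V r.1 r.2 := fun T => by
      induction T using Finset.induction_on with
      | empty => exact Opens.mem_top x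
      | insert r T _ ih => rw [Finset.inf_insert]; exact ⟨hxV r.1 r.2, ih⟩
    exact this _⟩
  have hle : U' ≤ U := inf_le_left
  have hzero : ∀ (y : X) (hy : y ∈ U'), y ≠ x → X.presheaf.germ U y (hle hy) s = 0 := by
    intro y hy hne
    obtain ⟨r, hrG, hru⟩ : ∃ r ∈ G, IsUnit (X.presheaf.germ U y (hle hy) r) := by
      by_contra hcon
      push_neg at hcon
      refine hne ?_
      have hle' : P.asIdeal ≤ (hU.primeIdealOf ⟨y, hle hy⟩).asIdeal := by
        rw [← hG, Submodule.span_le]
        intro r hr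
        letI := (X.presheaf.germ U y (hle hy)).hom.toAlgebra
        haveI := hU.isLocalization_stalk ⟨y, hle hy⟩
        exact (IsLocalization.AtPrime.to_map_mem_maximal_iff (X.presheaf.stalk y)
          (hU.primeIdealOf ⟨y, hle hy⟩).asIdeal r).1 (hcon r hr)
      have hsp : x ⤳ y := by
        have := ((PrimeSpectrum.le_iff_specializes P (hU.primeIdealOf ⟨y, hle hy⟩)).1 hle').map hU.fromSpec.continuous
        rwa [hU.fromSpec_primeIdealOf, hU.fromSpec_primeIdealOf] at this
      exact hsp.mem_closed hx rfl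
    have hyV : y ∈ V r hrG := (Finset.inf_le (f := fun r : {r // r ∈ G} => V r.1 r.2)
      (Finset.mem_attach G ⟨r, hrG⟩)) hy.2
    have h0 := congrArg (X.presheaf.germ (V r hrG) y hyV) (hV0 r hrG)
    rw [TopCat.Presheaf.germ_res_apply, map_zero, map_mul] at h0
    exact hru.mul_right_eq_zero.1 h0
  -- glue with zero
  let V₀ : X.Opens := ⟨({x} : Set X)ᶜ, hx.isOpen_compl⟩
  let W : ULift.{u} Bool → X.Opens := fun b => if b.down then U' else V₀
  let sf : ∀ b, Γ(X, W b) := fun b =>
    match b with
    | ⟨true⟩ => (X.presheaf.map (homOfLE hle).op s : Γ(X, U'))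
    | ⟨false⟩ => (0 : Γ(X, V₀))
  have hov : X.presheaf.map (homOfLE (inf_le_left : U' ⊓ V₀ ≤ U')).op (X.presheaf.map (homOfLE hle).op s) = 0 := by
    refine TopCat.Presheaf.section_ext X.sheaf _ _ _ fun y hy => ?_
    show X.presheaf.germ (U' ⊓ V₀) y hy _ = X.presheaf.germ (U' ⊓ V₀) y hy 0
    rw [TopCat.Presheaf.germ_res_apply, TopCat.Presheaf.germ_res_apply, map_zero]
    exact hzero y hy.1 hy.2
  have hcompat : TopCat.Presheaf.IsCompatible X.presheaf W sf := by
    rintro ⟨_ | _⟩ ⟨_ | _⟩
    · rfl
    · refine (map_zero _).trans ?_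
      have := congrArg (X.presheaf.map (homOfLE (le_inf inf_le_right inf_le_left :
        V₀ ⊓ U' ≤ U' ⊓ V₀)).op) hov
      rw [map_zero, ← ConcreteCategory.comp_apply, ← Functor.map_comp] at this
      exact this.symm
    · exact hov.trans (map_zero _).symm
    · rfl
  obtain ⟨e, he, -⟩ := X.sheaf.existsUnique_gluing' W ⊤ (fun _ => homOfLE le_top)
    (fun z _ => by
      by_cases hz : z = x
      · exact Opens.mem_iSup.2 ⟨⟨true⟩, hz ▸ hxU'⟩
      · exact Opens.mem_iSup.2 ⟨⟨false⟩, hz⟩) sf hcompat
  obtain ⟨c, rfl⟩ := exists_scalar k h e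
  have hg := congrArg (X.presheaf.germ U' x hxU') (he ⟨true⟩)
  rw [show sf ⟨true⟩ = X.presheaf.map (homOfLE hle).op s from rfl, TopCat.Presheaf.germ_res_apply] at hg
  rcases eq_or_ne c 0 with rfl | hc
  · rw [← hg, map_zero]
    erw [map_zero, map_zero]
  · exfalso
    have hu : IsUnit (X.presheaf.germ U x hxU s) := by
      rw [← hg]
      exact (((IsUnit.mk0 c hc).map (baseHom k X)).map (X.presheaf.map _).hom).map (X.presheaf.germ U' x hxU').hom
    exact hm ((Submodule.eq_bot_iff _).2 fun r hr => hu.mul_left_eq_zero.1 (ha r hr))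

theorem main [IsProper (X ↘ Spec (CommRingCat.of k))] (hdim : topologicalKrullDim X = 1)
    (h0 : Module.finrank k (Coh.HH X (Coh.structureModule X) 0) = 1) :
    ConnectedSpace X ∧ (∀ x : X, LocCoh.IsCohenMacaulayLocalRing (X.presheaf.stalk x)) ∧
      ∀ Z ∈ irreducibleComponents (X : Type u), topologicalKrullDim Z = 1 := by
  haveI := EulerLib.isNoetherian_of_proper (X := X) k
  have hconn := Inters29.connectedSpace_of_finrank_structure k h0
  refine ⟨hconn, fun x => ?_, fun Z hZ => ?_⟩
  · haveI : IsNoetherianRing (X.presheaf.stalk x) := inferInstance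
    rw [CAlgH3.isCohenMacaulayLocalRing_iff_depth]
    have hle : ringKrullDim (X.presheaf.stalk x) ≤ 1 := (EGA4Dim6.stalk_dim_le_dim x).trans hdim.le
    have hdep : ((LocCoh.depth (X.presheaf.stalk x) (X.presheaf.stalk x) : ℕ∞) : WithBot ℕ∞) ≤
        ringKrullDim (X.presheaf.stalk x) := by
      rw [← Module.supportDim_self_eq_ringKrullDim]
      exact CAlgH3.depth_le_supportDim
    refine le_antisymm ?_ hdep
    by_cases hd0 : ringKrullDim (X.presheaf.stalk x) ≤ 0
    · exact hd0.trans (by exact_mod_cast bot_le)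
    have h1 : 1 ≤ LocCoh.depth (X.presheaf.stalk x) (X.presheaf.stalk x) := by
      rw [CAlgH3.one_le_depth_iff]
      intro hass
      obtain ⟨-, a, ha⟩ := isAssociatedPrime_iff.1 hass
      have hx : IsClosed ({x} : Set X) := by
        by_contra hxc
        obtain ⟨c, hc, hne⟩ : ∃ c, x ⤳ c ∧ c ≠ x := by
          by_contra hcon
          push_neg at hcon
          refine hxc (closure_subset_iff_isClosed.1 fun c hc => hcon c (specializes_iff_mem_closure.2 hc))
        refine hd0 ?_
        have hmax : ∀ w : X, w ⤳ x → w = x := fun w hw => by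
          rcases CurveLib.eq_or_eq_of_dim_one ((EGA4Dim6.stalk_dim_le_dim c).trans hdim.le) hw hc with h | h
          · exact absurd h.symm hne
          · exact h.symm
        haveI : Subsingleton (PrimeSpectrum (X.presheaf.stalk x)) := ⟨fun a b => by
          refine (X.fromSpecStalk x).isEmbedding.injective ?_
          have : ∀ q, X.fromSpecStalk x q = x := fun q => hmax _ (X.range_fromSpecStalk.le ⟨q, rfl⟩)
          rw [this, this]⟩
        exact topologicalKrullDim_zero_of_discreteTopology _ |> fun h => (PrimeSpectrum.topologicalKrullDim_eq_ringKrullDim _).symm.trans_le h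
      have hm : maximalIdeal (X.presheaf.stalk x) ≠ ⊥ := fun h => hd0
        (ringKrullDim_eq_zero_of_isField (IsLocalRing.isField_iff_maximalIdeal_eq.2 h)).le
      have hkill : ∀ r ∈ maximalIdeal (X.presheaf.stalk x), r * a = 0 := fun r hr => by
        rw [ha, Submodule.mem_colon_singleton, Submodule.mem_bot] at hr
        exact hr
      obtain rfl := eq_zero_of_killed k h0 hx hm a hkill
      refine (maximalIdeal.isMaximal (X.presheaf.stalk x)).ne_top (Ideal.eq_top_iff_one _ |>.2 ?_)
      rw [ha, Submodule.mem_colon_singleton, smul_zero]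
      exact zero_mem _
    exact hle.trans (by exact_mod_cast h1)
  · refine le_antisymm ((Topology.IsInducing.subtypeVal.topologicalKrullDim_le (Y := (Z : Set X))).trans hdim.le) ?_
    by_contra hlt
    rw [not_le] at hlt
    have hZc := isClosed_of_mem_irreducibleComponents Z hZ
    obtain ⟨ξ, hξ⟩ := QuasiSober.sober hZ.1 hZc
    have hZsub : Z = {ξ} := by
      refine Set.Subset.antisymm (fun p hp => ?_) (Set.singleton_subset_iff.2 hξ.mem)
      by_contra hne
      let zp : Z := ⟨p, hp⟩
      let zξ : Z := ⟨ξ, hξ.mem⟩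
      let a : IrreducibleCloseds Z := ⟨closure {zp}, isIrreducible_singleton.closure, isClosed_closure⟩
      let b : IrreducibleCloseds Z := ⟨closure {zξ}, isIrreducible_singleton.closure, isClosed_closure⟩
      have hsp : zξ ⤳ zp := (subtype_specializes_iff _ _).2 (hξ.specializes hp)
      have hab : a < b := by
        refine lt_of_le_of_ne (show closure {zp} ⊆ closure {zξ} from specializes_iff_closure_subset.1 hsp) fun he => hne ?_
        have hsp' : zp ⤳ zξ := specializes_iff_closure_subset.2 (congrArg IrreducibleCloseds.carrier he).ge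
        exact (Specializes.antisymm (hξ.specializes hp) ((subtype_specializes_iff _ _).1 hsp')).eq.symm
      have h2 : (1 : WithBot ℕ∞) ≤ topologicalKrullDim Z := Order.one_le_krullDim_iff.2 ⟨a, b, hab⟩
      exact absurd h2 (not_le.2 hlt)
    subst hZsub
    have hopen : IsOpen ({ξ} : Set X) := by
      have hfin := NoetherianSpace.finite_irreducibleComponents (α := (X : Type u))
      have : ({ξ} : Set X) = (⋃ T ∈ irreducibleComponents (X : Type u) \ {({ξ} : Set X)}, T)ᶜ := by
        refine Set.ext fun w => ⟨?_, fun hw => ?_⟩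
        · intro hw hmem
          obtain ⟨T, hT, hwT⟩ := Set.mem_iUnion₂.1 hmem
          have hsub : ({ξ} : Set X) ⊆ T := Set.singleton_subset_iff.2 ((Set.mem_singleton_iff.1 hw) ▸ hwT)
          exact hT.2 (hsub.antisymm (hZ.2 hT.1.1 hsub)).symm
        · obtain ⟨T, hT, hwT⟩ := (⟨_, irreducibleComponent_mem_irreducibleComponents w, mem_irreducibleComponent⟩ :
            ∃ T ∈ irreducibleComponents (X : Type u), w ∈ T)
          by_contra hwξ
          exact hw (Set.mem_iUnion₂.2 ⟨T, ⟨hT, fun he => hwξ ((Set.mem_singleton_iff.1 he) ▸ hwT)⟩, hwT⟩)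
      rw [this]
      exact ((hfin.subset Set.diff_subset).isClosed_biUnion fun T hT =>
        isClosed_of_mem_irreducibleComponents T hT.1).isOpen_compl
    haveI := hconn
    have huniv : ({ξ} : Set X) = Set.univ :=
      IsClopen.eq_univ ⟨hZc, hopen⟩ (Set.singleton_nonempty ξ)
    rw [huniv] at hlt
    exact absurd hlt (by rw [IsHomeomorph.topologicalKrullDim_eq _ (Homeomorph.Set.univ (X : Type u)).isHomeomorph, hdim]; exact lt_irrefl _)

end Groth.Agent.CurveH0CM24
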